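import Groth.Agent.L09.ClosedSub.Order

/-!
# Maximal ideals of non-scheme base change
-/

universe u

open CategoryTheory CategoryTheory.Limits AlgebraicGeometry Opposite AlgSp

set_option autoImplicit false
set_option linter.style.haveILetI false
set_option backward.isDefEq.respectTransparency false
set_option backward.isDefEq.respectTransparency.types false

noncomputable section

namespace Groth.L09.ClosedSub

open Groth.L23

variable {A : CommRingCat.{u}}

/-- The closed subscheme of an affine base cut out by an ideal. -/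
def quotι (I : Ideal A) : Over.mk (Spec.map (CommRingCat.ofHom (Ideal.Quotient.mk I))) ⟶ Over.mk (𝟙 (Spec A)) :=
  Over.homMk (Spec.map (CommRingCat.ofHom (Ideal.Quotient.mk I))) (by simp)

instance (I : Ideal A) : IsClosedImmersion (quotι I).left :=
  IsClosedImmersion.spec_of_surjective _ Ideal.Quotient.mk_surjective

theorem exists_factor_quot_iff {V : Scheme.{u}} (a : V ⟶ Spec A) (I : Ideal A) :
    (∃ b : V ⟶ Spec (.of (A ⧸ I)), b ≫ Spec.map (CommRingCat.ofHom (Ideal.Quotient.mk I)) = a) ↔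
      I ≤ RingHom.ker ((Scheme.ΓSpecIso A).inv ≫ a.appTop).hom := by
  constructor
  · rintro ⟨b, rfl⟩ x hx
    have h : (Scheme.ΓSpecIso A).inv ≫ (b ≫ Spec.map (CommRingCat.ofHom (Ideal.Quotient.mk I))).appTop =
        CommRingCat.ofHom (Ideal.Quotient.mk I) ≫ (Scheme.ΓSpecIso _).inv ≫ b.appTop := by
      rw [Scheme.Hom.comp_appTop, ← Category.assoc, ← Category.assoc]
      congr 1
      exact (Scheme.ΓSpecIso_inv_naturality _).symm
    refine (congrArg (fun φ => φ.hom x) h).trans ?_
    show (Scheme.Hom.appTop b).hom ((Scheme.ΓSpecIso _).inv.hom (Ideal.Quotient.mk I x)) = 0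
    rw [Ideal.Quotient.eq_zero_iff_mem.2 hx, map_zero, map_zero]
  · intro h
    refine ⟨V.toSpecΓ ≫ Spec.map (CommRingCat.ofHom
      (Ideal.Quotient.lift I ((Scheme.ΓSpecIso A).inv ≫ a.appTop).hom h)), ?_⟩
    rw [Category.assoc, ← Spec.map_comp, ← CommRingCat.ofHom_comp, Ideal.Quotient.lift_comp_mk,
      CommRingCat.ofHom_hom, Spec.map_comp, ← Scheme.toSpecΓ_naturality_assoc, toSpecΓ_SpecMap_ΓSpecIso_inv,
      Category.comp_id]

theorem exists_factor_sSup {X : Sp (Spec A)} (hX : IsAlgSpace X) (a : X ⟶ (yon (Spec A)).obj (Over.mk (𝟙 (Spec A))))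
    {c : Set (Ideal A)} (h : ∀ I ∈ c, ∃ b, b ≫ (yon (Spec A)).map (quotι I) = a) :
    ∃ b, b ≫ (yon (Spec A)).map (quotι (sSup c)) = a := by
  obtain ⟨U, p, hp, hps⟩ := hX.atlas
  haveI := epi_of_repWith p hp hps
  haveI : Mono ((yon (Spec A)).map (quotι (sSup c))) := by
    haveI : Mono (quotι (sSup c)).left := inferInstance
    haveI : Mono (quotι (sSup c)) := Over.mono_of_mono_left _
    infer_instance
  obtain ⟨m, hm⟩ := (yon (Spec A)).map_surjective (p ≫ a)
  obtain ⟨b, hb⟩ := (exists_factor_quot_iff m.left (sSup c)).2 (sSup_le fun I hI => by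
    obtain ⟨b, hb⟩ := h I hI
    obtain ⟨b', hb'⟩ := (yon (Spec A)).map_surjective (p ≫ b)
    refine (exists_factor_quot_iff m.left I).1 ⟨b'.left, ?_⟩
    have : b' ≫ quotι I = m := (yon (Spec A)).map_injective (by rw [Functor.map_comp, hb', hm, Category.assoc, hb])
    exact congrArg CommaMorphism.left this)
  let b₁ : U ⟶ Over.mk (Spec.map (CommRingCat.ofHom (Ideal.Quotient.mk (sSup c)))) :=
    Over.homMk b (hb.trans ((Category.comp_id _).symm.trans (Over.w m)))
  refine exists_factor_of_epi_of_mono p _ a ((yon (Spec A)).map b₁) ?_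
  rw [← Functor.map_comp, ← hm]
  exact congrArg _ (Over.OverMorphism.ext hb)

theorem rep_of_iso {S : Scheme.{u}} {F G : Sp S} (e : F ≅ G) (h : F.obj.IsRepresentable) : G.obj.IsRepresentable := by
  obtain ⟨T, ⟨e'⟩⟩ := isRepresentable_iff_exists_iso.1 h
  exact isRepresentable_iff_exists_iso.2 ⟨T, ⟨e' ≪≫ e⟩⟩

/-- An ideal maximal with non-scheme base change. -/
theorem exists_maximal_ideal (X : Space (Spec A)) (q : X.obj ⟶ (yon (Spec A)).obj (Over.mk (𝟙 (Spec A))))
    (hqc : IsQuasiCompactSp X.obj) (hqs : IsQuasiSeparatedSp X.obj) (hX : ¬ X.obj.obj.IsRepresentable) :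
    ∃ I : Ideal A, ¬ (pullback q ((yon (Spec A)).map (quotι I))).obj.IsRepresentable ∧
      ∀ I' : Ideal A, I < I' → (pullback q ((yon (Spec A)).map (quotι I'))).obj.IsRepresentable := by
  let P : Ideal A → Sp (Spec A) := fun I => pullback q ((yon (Spec A)).map (quotι I))
  let π : ∀ I : Ideal A, P I ⟶ X.obj := fun I => pullback.fst _ _
  have hπ : ∀ I, RepWith @IsClosedImmersion (π I) := fun I =>
    repWith_of_isPullback (IsPullback.of_hasPullback q ((yon (Spec A)).map (quotι I))).flip
      ((repWith_yon_map_iff _ _).2 inferInstance)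
  haveI := fun I => mono_of_closedImmersion (hπ I)
  haveI hm : ∀ I : Ideal A, Mono ((yon (Spec A)).map (quotι I)) := fun I => by
    haveI : Mono (quotι I).left := inferInstance
    haveI : Mono (quotι I) := Over.mono_of_mono_left _
    infer_instance
  let C : Set (Ideal A) := {I | ¬ (P I).obj.IsRepresentable}
  have hbot : (⊥ : Ideal A) ∈ C := fun h => by
    haveI : IsIso (CommRingCat.ofHom (Ideal.Quotient.mk (⊥ : Ideal A))) :=
      (ConcreteCategory.isIso_iff_bijective _).2 ⟨(RingHom.injective_iff_ker_eq_bot _).2 Ideal.mk_ker,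
        Ideal.Quotient.mk_surjective⟩
    haveI : IsIso ((Over.forget (Spec A)).map (quotι (⊥ : Ideal A))) :=
      inferInstanceAs (IsIso (Spec.map (CommRingCat.ofHom (Ideal.Quotient.mk (⊥ : Ideal A)))))
    haveI : IsIso (quotι (⊥ : Ideal A)) := isIso_of_reflects_iso _ (Over.forget _)
    haveI : IsIso (π ⊥) := inferInstanceAs (IsIso (pullback.fst q _))
    exact hX (rep_of_iso (asIso (π ⊥)) h)
  obtain ⟨I, -, hI⟩ := zorn_le_nonempty₀ C (fun c hcC hc y hy => by
    haveI : Nonempty c := ⟨⟨y, hy⟩⟩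
    haveI : IsDirectedOrder c := ⟨fun a b => by
      rcases hc.total a.2 b.2 with h | h
      · exact ⟨b, h, le_rfl⟩
      · exact ⟨a, le_rfl, h⟩⟩
    have hle : ∀ a b : Ideal A, a ≤ b → ∃ g : P b ⟶ P a, g ≫ π a = π b := fun a b hab => by
      let r : Over.mk (Spec.map (CommRingCat.ofHom (Ideal.Quotient.mk b))) ⟶
          Over.mk (Spec.map (CommRingCat.ofHom (Ideal.Quotient.mk a))) :=
        Over.homMk (Spec.map (CommRingCat.ofHom (Ideal.Quotient.factor hab)))
          (by simp [← Spec.map_comp, ← CommRingCat.ofHom_comp])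
      have hr : r ≫ quotι a = quotι b := Over.OverMorphism.ext (by
        simp [r, quotι, ← Spec.map_comp, ← CommRingCat.ofHom_comp])
      exact ⟨pullback.lift (π b) (pullback.snd q _ ≫ (yon (Spec A)).map r)
        (by rw [Category.assoc, ← Functor.map_comp, hr]; exact pullback.condition), pullback.lift_fst _ _ _⟩
    obtain ⟨W, g, hg, hW, hl, huniv⟩ := exists_inter X.property hqc hqs (fun k : c => P k.1) (fun k => π k.1)
      (fun k => hπ k.1) (fun k => hcC k.2) fun a b hab => hle _ _ hab
    refine ⟨sSup c, fun h => hW ?_, fun k hk => le_sSup hk⟩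
    obtain ⟨b, hb⟩ := exists_factor_sSup (isAlgSpace_of_representable_to X.property hg.1) (g ≫ q) (c := c)
      fun k hk => by
        obtain ⟨l, hl⟩ := hl ⟨k, hk⟩
        exact ⟨l ≫ pullback.snd q _, by rw [Category.assoc, ← pullback.condition, ← Category.assoc, hl]⟩
    let u : W ⟶ P (sSup c) := pullback.lift g b hb.symm
    have hu : u ≫ π (sSup c) = g := pullback.lift_fst _ _ _
    obtain ⟨v, hv⟩ := huniv (π (sSup c)) fun k => hle _ _ (le_sSup k.2)
    haveI := mono_of_closedImmersion hg
    haveI : IsIso v := ⟨u, by rw [← cancel_mono (π (sSup c)), Category.assoc, hu, hv, Category.id_comp],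
      by rw [← cancel_mono g, Category.assoc, hv, hu, Category.id_comp]⟩
    exact rep_of_iso (asIso v) h) ⊥ hbot
  exact ⟨I, hI.prop, fun I' hI' => by_contra fun h => hI'.not_ge (hI.le_of_ge h hI'.le)⟩

end Groth.L09.ClosedSub
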