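import Groth.Agent.L09.LimClosed.Basic
import Groth.Agent.L09.SpLimit.SchemeStage
import Mathlib.CategoryTheory.Limits.Connected
import Mathlib.Order.Zorn

/-!
# Closed subspaces ordered by their ideals on an atlas
-/

universe u

open CategoryTheory CategoryTheory.Limits AlgebraicGeometry Opposite AlgSp

set_option autoImplicit false
set_option linter.style.haveILetI false
set_option backward.isDefEq.respectTransparency false
set_option backward.isDefEq.respectTransparency.types false

noncomputable section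

namespace Groth.L09.ClosedSub

open Groth.L23

variable {S : Scheme.{u}} {X : Sp S}

/-- The ideal on a chart cut out by a closed subspace. -/
def idealOf {U : Over S} (p : (yon S).obj U ⟶ X) {Z : Sp S} {i : Z ⟶ X}
    (hi : RepWith @IsClosedImmersion i) : U.left.IdealSheafData :=
  (hi.1.snd p).left.ker

theorem idealOf_le_of_factor {U : Over S} (p : (yon S).obj U ⟶ X) {Z Z' : Sp S} {i : Z ⟶ X} {j : Z' ⟶ X}
    (hi : RepWith @IsClosedImmersion i) (hj : RepWith @IsClosedImmersion j) (g : Z' ⟶ Z) (hg : g ≫ i = j) :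
    idealOf p hi ≤ idealOf p hj := by
  obtain ⟨m, -, hm⟩ := (hi.1.isPullback p).exists_lift (hj.1.fst p ≫ g) ((yon S).map (hj.1.snd p))
    (by rw [Category.assoc, hg]; exact (hj.1.isPullback p).w)
  obtain ⟨m, rfl⟩ := (yon S).map_surjective m
  rw [← Functor.map_comp] at hm
  have h := congrArg CommaMorphism.left ((yon S).map_injective hm)
  dsimp at h
  exact le_of_le_of_eq (Scheme.Hom.le_ker_comp _ _) (congrArg Scheme.Hom.ker h)

theorem exists_factor_of_idealOf_le {U : Over S} {p : (yon S).obj U ⟶ X} (hp : RepWith @Etale p)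
    (hps : RepWith @Surjective p) {Z Z' : Sp S} {i : Z ⟶ X} {j : Z' ⟶ X}
    (hi : RepWith @IsClosedImmersion i) (hj : RepWith @IsClosedImmersion j) (h : idealOf p hi ≤ idealOf p hj) :
    ∃ g : Z' ⟶ Z, g ≫ i = j := by
  haveI : IsClosedImmersion (hi.1.snd p).left := hi.property_snd p
  obtain ⟨l, hl⟩ := LimClosed.exists_lift_closed (hi.1.snd p) (hj.1.snd p) h
  have sq := (hj.1.isPullback p)
  haveI : Epi (hj.1.fst p) := epi_of_repWith _ (repWith_of_isPullback sq.flip hp) (repWith_of_isPullback sq.flip hps)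
  haveI := mono_of_closedImmersion hi
  refine exists_factor_of_epi_of_mono (hj.1.fst p) i j ((yon S).map l ≫ hi.1.fst p) ?_
  rw [Category.assoc, (hi.1.isPullback p).w, ← Category.assoc, ← Functor.map_comp, hl, sq.w]

theorem repWith_closed_of_comp {A B C : Sp S} {f : A ⟶ B} {g : B ⟶ C} [Mono g]
    (h : RepWith @IsClosedImmersion (f ≫ g)) : RepWith @IsClosedImmersion f :=
  repWith_of_isPullback (a := 𝟙 A) (b := g) (IsPullback.of_isLimit' ⟨by simp⟩
    (PullbackCone.IsLimit.mk _ (fun s => s.fst) (fun s => Category.comp_id _)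
      (fun s => by rw [← cancel_mono g, Category.assoc, s.condition])
      (fun s m hm _ => by rw [← hm, Category.comp_id]))) h

theorem repWith_affine_of_closed {A B : Sp S} {f : A ⟶ B} (h : RepWith @IsClosedImmersion f) :
    RepWith @IsAffineHom f :=
  repWith_mono (fun φ (_ : IsClosedImmersion φ) => inferInstanceAs (IsAffineHom φ)) h

/-- A directed intersection of non-scheme closed subspaces is not a scheme. -/
theorem exists_inter [QuasiSeparatedSpace S] (hX : IsAlgSpace X) (hqc : IsQuasiCompactSp X)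
    (hqs : IsQuasiSeparatedSp X) {K : Type u} [Preorder K] [IsDirectedOrder K] [Nonempty K] (Z : K → Sp S)
    (i : ∀ k, Z k ⟶ X) (hi : ∀ k, RepWith @IsClosedImmersion (i k)) (hn : ∀ k, ¬ (Z k).obj.IsRepresentable)
    (hle : ∀ a b, a ≤ b → ∃ g : Z b ⟶ Z a, g ≫ i a = i b) :
    ∃ (W : Sp S) (g : W ⟶ X), RepWith @IsClosedImmersion g ∧ ¬ W.obj.IsRepresentable ∧
      (∀ k, ∃ l : W ⟶ Z k, l ≫ i k = g) ∧
      ∀ {V : Sp S} (v : V ⟶ X), (∀ k, ∃ l : V ⟶ Z k, l ≫ i k = v) → ∃ l : V ⟶ W, l ≫ g = v := by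
  haveI := fun k => mono_of_closedImmersion (hi k)
  choose tr htr using hle
  let D : Kᵒᵖ ⥤ Sp S :=
    { obj := fun k => Z k.unop
      map := fun {a b} φ => tr _ _ (leOfHom φ.unop)
      map_id := fun a => by rw [← cancel_mono (i a.unop), htr, Category.id_comp]
      map_comp := fun {a b c} φ ψ => by rw [← cancel_mono (i c.unop), Category.assoc, htr, htr, htr] }
  let τ : D ⟶ (Functor.const Kᵒᵖ).obj X :=
    { app := fun k => i k.unop
      naturality := fun a b φ => by
        show tr _ _ _ ≫ i b.unop = i a.unop ≫ 𝟙 _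
        rw [htr, Category.comp_id] }
  haveI : IsCofiltered Kᵒᵖ := isCofiltered_op_of_isFiltered K
  haveI : IsConnected Kᵒᵖ := IsCofiltered.isConnected _
  obtain ⟨c, hc⟩ : ∃ c : Cone D, Nonempty (IsLimit c) := ⟨_, ⟨limit.isLimit D⟩⟩
  obtain ⟨hc⟩ := hc
  let k₀ : Kᵒᵖ := Opposite.op (Classical.arbitrary K)
  let g : c.pt ⟶ X := c.π.app k₀ ≫ i k₀.unop
  have hg : ∀ k : Kᵒᵖ, c.π.app k ≫ i k.unop = g := fun k => by
    let f : Kᵒᵖ → (c.pt ⟶ X) := fun k => c.π.app k ≫ i k.unop
    exact constant_of_preserves_morphisms f (fun a b φ => by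
      show _ = c.π.app b ≫ i b.unop
      rw [← c.w φ, Category.assoc]
      exact congrArg (c.π.app a ≫ ·) (htr _ _ _).symm) k k₀
  have hcl : RepWith @IsClosedImmersion g :=
    LimClosed.closedImmersion_lim τ (fun k => hi k.unop) hc (isLimitConstCone Kᵒᵖ X) g fun k => by
      show g ≫ 𝟙 X = c.π.app k ≫ i k.unop
      rw [Category.comp_id, hg]
  refine ⟨c.pt, g, hcl, fun hrep => ?_, fun k => ⟨c.π.app (Opposite.op k), hg _⟩, fun {V} v hv => ?_⟩
  · obtain ⟨T, ⟨e⟩⟩ := isRepresentable_iff_exists_iso.1 hrep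
    have hD : ∀ k, RepWith @IsAffineHom (i k) := fun k => repWith_affine_of_closed (hi k)
    obtain ⟨k, hk⟩ := SpLimit.exists_isRepresentable (D := D)
      (fun k => isAlgSpace_of_representable_to hX (hi k.unop).1)
      (fun a b φ => isAffineMor_iff.2 (repWith_affine_of_closed
        (repWith_closed_of_comp (g := i b.unop) (by
          show RepWith _ (tr _ _ _ ≫ i b.unop)
          rw [htr]; exact hi a.unop))))
      (fun k => SpLimit.qcSp_of_affine hX hqc (hD k.unop)) (fun k => SpLimit.qsSp_of_affine hqs (hD k.unop)) hc e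
    exact hn k.unop hk
  · choose l hl using hv
    let cV : Cone D :=
      { pt := V
        π :=
          { app := fun k => l k.unop
            naturality := fun a b φ => by
              show 𝟙 _ ≫ l b.unop = l a.unop ≫ tr _ _ _
              rw [← cancel_mono (i b.unop), Category.id_comp, Category.assoc, htr, hl, hl] } }
    refine ⟨hc.lift cV, ?_⟩
    show hc.lift cV ≫ c.π.app k₀ ≫ i k₀.unop = v
    rw [← Category.assoc, hc.fac]
    exact hl _

/-- A quasi-compact quasi-separated non-scheme has a minimal non-scheme closed subspace. -/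
theorem exists_minimal [QuasiSeparatedSpace S] (X : Space S) (hqc : IsQuasiCompactSp X.obj)
    (hqs : IsQuasiSeparatedSp X.obj) (hX : ¬ X.obj.obj.IsRepresentable) :
    ∃ (Z : Space S) (i : Z ⟶ X), RepWith @IsClosedImmersion i.hom ∧ ¬ Z.obj.obj.IsRepresentable ∧
      ∀ (Z' : Space S) (i' : Z' ⟶ Z), RepWith @IsClosedImmersion i'.hom → ¬ IsIso i' →
        Z'.obj.obj.IsRepresentable := by
  obtain ⟨U, p, hp, hps⟩ := X.property.atlas
  let C : Set U.left.IdealSheafData := {J | ∃ (Z : Sp S) (i : Z ⟶ X.obj) (hi : RepWith @IsClosedImmersion i),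
    ¬ Z.obj.IsRepresentable ∧ idealOf p hi = J}
  have hid : RepWith @IsClosedImmersion (𝟙 X.obj) := repWith_of_isIso _
  obtain ⟨J, -, hJ⟩ := zorn_le_nonempty₀ C (fun c hcC hc y hy => by
    choose Z i hi hn hJ using fun k : c => hcC k.2
    haveI : Nonempty c := ⟨⟨y, hy⟩⟩
    haveI : IsDirectedOrder c := ⟨fun a b => by
      rcases hc.total a.2 b.2 with h | h
      · exact ⟨b, h, le_rfl⟩
      · exact ⟨a, le_rfl, h⟩⟩
    obtain ⟨W, g, hg, hW, hl, -⟩ := exists_inter X.property hqc hqs Z i hi hn fun a b hab =>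
      exists_factor_of_idealOf_le hp hps (hi a) (hi b) (by rw [hJ, hJ]; exact hab)
    exact ⟨idealOf p hg, ⟨W, g, hg, hW, rfl⟩, fun k hk => by
      obtain ⟨l, hl⟩ := hl ⟨k, hk⟩
      exact (hJ ⟨k, hk⟩).ge.trans (idealOf_le_of_factor p _ hg l hl)⟩) (idealOf p hid) ⟨_, _, hid, hX, rfl⟩
  obtain ⟨Z, i, hi, hn, rfl⟩ := hJ.prop
  refine ⟨⟨Z, isAlgSpace_of_representable_to X.property hi.1⟩, ObjectProperty.homMk i, hi, hn,
    fun Z' i' hi' hne => by_contra fun hn' => hne ?_⟩
  have hci : RepWith @IsClosedImmersion (i'.hom ≫ i) := repWith_comp hi' hi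
  obtain ⟨g, hg⟩ := exists_factor_of_idealOf_le hp hps hci hi
    (hJ.le_of_ge ⟨_, _, hci, hn', rfl⟩ (idealOf_le_of_factor p hi hci i'.hom rfl))
  haveI := mono_of_closedImmersion hi
  haveI := mono_of_closedImmersion hi'
  have h₁ : g ≫ i'.hom = 𝟙 Z := by rw [← cancel_mono i, Category.assoc, hg, Category.id_comp]
  haveI : IsIso ((ObjectProperty.ι (IsAlgSpace (S := S))).map i') :=
    ⟨g, show i'.hom ≫ g = 𝟙 Z'.obj by rw [← cancel_mono i'.hom, Category.assoc, h₁, Category.comp_id, Category.id_comp],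
      h₁⟩
  exact isIso_of_fully_faithful (ObjectProperty.ι (IsAlgSpace (S := S))) i'

end Groth.L09.ClosedSub
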